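import Cfsg.Agent.Lib.ExtraAut.Model
import Cfsg.Prelude.Def_Transfer

/-!
# Three hyperbolic pairs in an extraspecial 2-group
-/

set_option autoImplicit false
set_option linter.style.haveILetI false
set_option maxRecDepth 100000

namespace CfsgLib.ExtraAut

open scoped commutatorElement

variable {Q : Type*} [Group Q]

/-- Six generators and a central element with the relations of the group of order 128. -/
structure Pairs (Q : Type*) [Group Q] where
  x : Fin 3 → Q
  y : Fin 3 → Q
  c : Q
  c_ne : c ≠ 1
  c_sq : c * c = 1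
  c_comm : ∀ g, g * c = c * g
  bin : ∀ g h : Q, g * h = h * g ∨ g * h = h * g * c
  x_sq : ∀ i, x i * x i = 1
  y_sq : ∀ i, y i * y i = 1
  xx : ∀ i j, x i * x j = x j * x i
  yy : ∀ i j, y i * y j = y j * y i
  xy : ∀ i j, i ≠ j → y i * x j = x j * y i
  pair : ∀ i, y i * x i = x i * y i * c

/-- A conditional factor. -/
def cond' (s : Bool) (g : Q) : Q := bif s then g else 1

theorem cond'_mul {g : Q} (hg : g * g = 1) (s t : Bool) :
    cond' s g * cond' t g = cond' (s ^^ t) g := by
  cases s <;> cases t <;> simp [cond', hg]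

theorem cond'_comm {g h : Q} (hgh : g * h = h * g) (s t : Bool) :
    cond' s g * cond' t h = cond' t h * cond' s g := by
  cases s <;> cases t <;> simp [cond', hgh]

theorem mu_testBit : ∀ x < 128, ∀ y < 128,
    (mu x y).testBit 0 = (x.testBit 0 ^^ y.testBit 0) ∧ (mu x y).testBit 1 = (x.testBit 1 ^^ y.testBit 1) ∧
    (mu x y).testBit 2 = (x.testBit 2 ^^ y.testBit 2) ∧ (mu x y).testBit 3 = (x.testBit 3 ^^ y.testBit 3) ∧
    (mu x y).testBit 4 = (x.testBit 4 ^^ y.testBit 4) ∧ (mu x y).testBit 5 = (x.testBit 5 ^^ y.testBit 5) ∧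
    (mu x y).testBit 6 = ((x.testBit 6 ^^ y.testBit 6) ^^ ((x.testBit 3 && y.testBit 0) ^^
      ((x.testBit 4 && y.testBit 1) ^^ (x.testBit 5 && y.testBit 2)))) := by decide +kernel

theorem central_model : ∀ x < 128, (∀ k < 6, mu x (2 ^ k) = mu (2 ^ k) x) → x = 0 ∨ x = 64 := by
  decide +kernel

theorem bits_spec : ∀ s : Fin 6 → Bool, ∃ x < 128, ∀ k : Fin 6,
    (decide (mu x (2 ^ (k : ℕ)) = mu (2 ^ (k : ℕ)) x)) = !(s k) := by decide +kernel

namespace Pairs

variable (d : Pairs Q)

/-- The pair factor. -/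
def fac (i : Fin 3) (s t : Bool) : Q := cond' s (d.x i) * cond' t (d.y i)

/-- The embedding of the model. -/
def emb (m : ℕ) : Q :=
  d.fac 0 (m.testBit 0) (m.testBit 3) * d.fac 1 (m.testBit 1) (m.testBit 4) *
    d.fac 2 (m.testBit 2) (m.testBit 5) * cond' (m.testBit 6) d.c

theorem cond_c_comm (s : Bool) (g : Q) : g * cond' s d.c = cond' s d.c * g := by
  cases s <;> simp [cond', d.c_comm]

theorem fac_comm {i j : Fin 3} (hij : i ≠ j) (s t s' t' : Bool) :
    d.fac i s t * d.fac j s' t' = d.fac j s' t' * d.fac i s t := by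
  have h1 : Commute (cond' s (d.x i)) (d.fac j s' t') :=
    Commute.mul_right (cond'_comm (d.xx i j) s s') (cond'_comm (d.xy j i hij.symm).symm s t')
  have h2 : Commute (cond' t (d.y i)) (d.fac j s' t') :=
    Commute.mul_right (cond'_comm (d.xy i j hij) t s') (cond'_comm (d.yy i j) t t')
  exact (h1.mul_left h2).eq

theorem fac_mul (i : Fin 3) (s t s' t' : Bool) :
    d.fac i s t * d.fac i s' t' = d.fac i (s ^^ s') (t ^^ t') * cond' (t && s') d.c := by
  have h1 : cond' t (d.y i) * cond' s' (d.x i) =
      cond' s' (d.x i) * cond' t (d.y i) * cond' (t && s') d.c := by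
    cases t <;> cases s' <;> simp [cond', d.pair]
  simp only [fac]
  calc cond' s (d.x i) * cond' t (d.y i) * (cond' s' (d.x i) * cond' t' (d.y i))
      = cond' s (d.x i) * (cond' t (d.y i) * cond' s' (d.x i)) * cond' t' (d.y i) := by group
    _ = cond' s (d.x i) * cond' s' (d.x i) * (cond' t (d.y i) *
        (cond' (t && s') d.c * cond' t' (d.y i))) := by rw [h1]; group
    _ = cond' s (d.x i) * cond' s' (d.x i) * (cond' t (d.y i) * cond' t' (d.y i)) *
        cond' (t && s') d.c := by rw [← d.cond_c_comm]; group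
    _ = _ := by rw [cond'_mul (d.x_sq i), cond'_mul (d.y_sq i)]

theorem emb_mul {m n : ℕ} (hm : m < 128) (hn : n < 128) :
    d.emb (mu m n) = d.emb m * d.emb n := by
  obtain ⟨e0, e1, e2, e3, e4, e5, e6⟩ := mu_testBit m hm n hn
  simp only [emb, e0, e1, e2, e3, e4, e5, e6]
  set A := d.fac 0 (m.testBit 0) (m.testBit 3) with hA
  set B := d.fac 1 (m.testBit 1) (m.testBit 4) with hB
  set C := d.fac 2 (m.testBit 2) (m.testBit 5) with hC
  set A' := d.fac 0 (n.testBit 0) (n.testBit 3) with hA'
  set B' := d.fac 1 (n.testBit 1) (n.testBit 4) with hB'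
  set C' := d.fac 2 (n.testBit 2) (n.testBit 5) with hC'
  set z := cond' (m.testBit 6) d.c
  set z' := cond' (n.testBit 6) d.c
  symm
  calc A * B * C * z * (A' * B' * C' * z')
      = A * B * C * (A' * B' * C') * (z * z') := by
        rw [show A * B * C * z * (A' * B' * C' * z') = A * B * C * (z * (A' * B' * C')) * z' by group,
          ← d.cond_c_comm]
        group
        rfl
    _ = A * B * (C * A') * B' * C' * (z * z') := by group
    _ = A * B * (A' * C) * B' * C' * (z * z') := by rw [show C * A' = A' * C from d.fac_comm (by decide) _ _ _ _]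
    _ = A * (B * A') * (C * B') * C' * (z * z') := by group
    _ = A * (A' * B) * (B' * C) * C' * (z * z') := by
        rw [show B * A' = A' * B from d.fac_comm (by decide) _ _ _ _,
          show C * B' = B' * C from d.fac_comm (by decide) _ _ _ _]
    _ = (A * A') * (B * B') * (C * C') * (z * z') := by group
    _ = _ := by
        rw [hA, hA', hB, hB', hC, hC', d.fac_mul, d.fac_mul, d.fac_mul]
        set p := d.fac 0 _ _
        set q := d.fac 1 _ _
        set r := d.fac 2 _ _
        set u := cond' (m.testBit 3 && n.testBit 0) d.c with hu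
        set v := cond' (m.testBit 4 && n.testBit 1) d.c with hv
        set w := cond' (m.testBit 5 && n.testBit 2) d.c with hw
        have e : p * u * (q * v) * (r * w) * (z * z') = p * q * r * (z * z' * (u * (v * w))) := by
          have cu : ∀ g, u * g = g * u := fun g => (d.cond_c_comm _ g).symm
          have cv : ∀ g, v * g = g * v := fun g => (d.cond_c_comm _ g).symm
          calc p * u * (q * v) * (r * w) * (z * z') = p * (u * q) * (v * r) * (w * (z * z')) := by group
            _ = p * (q * u) * (r * v) * ((z * z') * w) := by rw [cu, cv, ← d.cond_c_comm (g := z * z')]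
            _ = p * q * (u * r) * (v * (z * z')) * w := by group
            _ = p * q * (r * u) * ((z * z') * v) * w := by rw [cu, cv]
            _ = p * q * r * (u * (z * z')) * (v * w) := by group
            _ = p * q * r * (z * z' * u) * (v * w) := by rw [cu]
            _ = _ := by group
        rw [e]
        congr 1
        show cond' _ d.c * cond' _ d.c * (cond' _ d.c * (cond' _ d.c * cond' _ d.c)) = _
        simp only [cond'_mul d.c_sq]

theorem emb_zero : d.emb 0 = 1 := by simp [emb, fac, cond']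

theorem emb_central : d.emb 64 = d.c := by simp [emb, fac, cond', Nat.testBit]

theorem emb_gens : ∀ i : Fin 3, d.emb (2 ^ (i : ℕ)) = d.x i ∧ d.emb (2 ^ ((i : ℕ) + 3)) = d.y i := by
  intro i
  fin_cases i <;> simp [emb, fac, cond', Nat.testBit]

theorem emb_xor_central {m : ℕ} (hm : m < 128) : d.emb (mu m 64) = d.emb m * d.c := by
  rw [d.emb_mul hm (by norm_num), d.emb_central]

/-- An element commuting with the whole image is central in the model. -/
theorem eq_central {m : ℕ} (hm : m < 128) (h : ∀ n < 128, d.emb m * d.emb n = d.emb n * d.emb m) :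
    m = 0 ∨ m = 64 := by
  refine central_model m hm fun k hk => ?_
  have hk' : 2 ^ k < 128 := lt_of_le_of_lt (Nat.pow_le_pow_right two_pos (Nat.le_of_lt_succ hk))
    (by norm_num)
  have h1 := h _ hk'
  rw [← d.emb_mul hm hk', ← d.emb_mul hk' hm] at h1
  by_contra hne
  have key : ∀ a < 128, ∀ k < 6, mu a (2 ^ k) ≠ mu (2 ^ k) a → mu a (2 ^ k) = mu (mu (2 ^ k) a) 64 := by
    decide +kernel
  rw [key m hm k hk hne, d.emb_xor_central (mu_lt _ hk' _ hm), mul_eq_left] at h1
  exact d.c_ne h1

theorem emb_injective {m n : ℕ} (hm : m < 128) (hn : n < 128) (h : d.emb m = d.emb n) : m = n := by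
  obtain ⟨hi, h1, h2⟩ := ivx_spec n hn
  have h3 : d.emb (mu (ivx n) m) = 1 := by
    rw [d.emb_mul hi hm, h, ← d.emb_mul hi hn, h2, d.emb_zero]
  have hl := mu_lt _ hi _ hm
  rcases d.eq_central hl (fun j _ => by rw [h3, one_mul, mul_one]) with h4 | h4
  · have key : ∀ a < 128, ∀ b < 128, mu (ivx b) a = 0 → a = b := by decide +kernel
    exact key m hm n hn h4
  · rw [h4, d.emb_central] at h3
    exact absurd h3 d.c_ne

/-- Membership in the centralizer of the image. -/
def Fix (r : Q) : Prop := ∀ n < 128, r * d.emb n = d.emb n * r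

theorem model_induction (P : ℕ → Prop) (h0 : P 0) (h64 : ∀ m < 128, P m → P (mu m 64))
    (hgen : ∀ m < 128, ∀ k < 6, P m → P (mu m (2 ^ k))) : ∀ m < 128, P m := by
  have key : ∀ m < 128, m = 0 ∨ (∃ p < m, ∃ k < 6, m = mu p (2 ^ k)) ∨ ∃ p < m, m = mu p 64 := by
    decide +kernel
  intro m
  induction m using Nat.strong_induction_on with
  | _ m ih =>
    intro hm
    rcases key m hm with rfl | ⟨p, hp, k, hk, e⟩ | ⟨p, hp, e⟩
    · exact h0
    · exact e ▸ hgen p (hp.trans hm) k hk (ih p hp (hp.trans hm))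
    · exact e ▸ h64 p (hp.trans hm) (ih p hp (hp.trans hm))

theorem fix_of_gens {r : Q} (h : ∀ k < 6, r * d.emb (2 ^ k) = d.emb (2 ^ k) * r) : d.Fix r := by
  refine model_induction _ (by simp [d.emb_zero]) (fun m hm hP => ?_) (fun m hm k hk hP => ?_)
  · rw [d.emb_xor_central hm, ← mul_assoc, hP, mul_assoc, d.c_comm r, ← mul_assoc]
  · rw [d.emb_mul hm (lt_of_le_of_lt (Nat.pow_le_pow_right two_pos (Nat.le_of_lt_succ hk))
      (by norm_num)), ← mul_assoc, hP, mul_assoc, h k hk, ← mul_assoc]

/-- The decomposition as a central product. -/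
theorem exists_decomp (g : Q) : ∃ m < 128, ∃ r, d.Fix r ∧ g = d.emb m * r := by
  classical
  obtain ⟨x, hx, hs⟩ := bits_spec fun k => decide (g * d.emb (2 ^ (k : ℕ)) ≠ d.emb (2 ^ (k : ℕ)) * g)
  obtain ⟨hi, h1, h2⟩ := ivx_spec x hx
  refine ⟨x, hx, (d.emb x)⁻¹ * g, d.fix_of_gens fun k hk => ?_, by group⟩
  have hk' : 2 ^ k < 128 := lt_of_le_of_lt (Nat.pow_le_pow_right two_pos (Nat.le_of_lt_succ hk))
    (by norm_num)
  set a := d.emb (2 ^ k) with ha
  set u := d.emb x with hu
  have hcase : (u * a = a * u ∧ g * a = a * g) ∨ (u * a = a * u * d.c ∧ g * a = a * g * d.c) := by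
    have e1 := hs ⟨k, hk⟩
    simp only at e1
    by_cases hgk : g * a = a * g
    · left
      refine ⟨?_, hgk⟩
      rw [show decide (g * d.emb (2 ^ k) ≠ d.emb (2 ^ k) * g) = false from decide_eq_false (not_not.mpr hgk),
        Bool.not_false, decide_eq_true_eq] at e1
      rw [hu, ha, ← d.emb_mul hx hk', e1, d.emb_mul hk' hx]
    · right
      rw [show decide (g * d.emb (2 ^ k) ≠ d.emb (2 ^ k) * g) = true from decide_eq_true hgk,
        Bool.not_true, decide_eq_false_iff_not] at e1
      refine ⟨?_, (d.bin g a).resolve_left hgk⟩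
      refine (d.bin u a).resolve_left fun e2 => e1 ?_
      apply d.emb_injective (mu_lt _ hx _ hk') (mu_lt _ hk' _ hx)
      rw [d.emb_mul hx hk', d.emb_mul hk' hx]
      exact e2
  rcases hcase with ⟨hu', hg⟩ | ⟨hu', hg⟩
  · exact ((show Commute u a from hu').inv_left.mul_left hg).eq
  · have hinv : u⁻¹ * a = a * u⁻¹ * d.c := by
      calc u⁻¹ * a = u⁻¹ * (a * u * d.c) * d.c * u⁻¹ := by
            rw [mul_assoc u⁻¹ (a * u * d.c), mul_assoc (a * u) d.c, d.c_sq]; group
        _ = u⁻¹ * (u * a) * d.c * u⁻¹ := by rw [hu']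
        _ = a * (d.c * u⁻¹) := by group
        _ = a * (u⁻¹ * d.c) := by rw [d.c_comm u⁻¹]
        _ = _ := by group
    calc u⁻¹ * g * a = u⁻¹ * (a * g * d.c) := by rw [mul_assoc, hg]
      _ = (u⁻¹ * a) * (g * d.c) := by group
      _ = a * u⁻¹ * (d.c * (g * d.c)) := by rw [hinv]; group
      _ = a * u⁻¹ * (g * (d.c * d.c)) := by rw [← mul_assoc d.c, ← d.c_comm g, mul_assoc g]
      _ = a * (u⁻¹ * g) := by rw [d.c_sq]; group

/-- Extension of an automorphism of the model. -/
theorem exists_extend (f : ℕ → ℕ) (hhom : ∀ x < 128, ∀ y < 128, f (mu x y) = mu (f x) (f y))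
    (hrange : ∀ x < 128, f x < 128 ∧ ∃ y < 128, f y = x) (hc : f 64 = 64 ∧ f 0 = 0) :
    ∃ φ : Q ≃* Q, (∀ m < 128, φ (d.emb m) = d.emb (f m)) ∧ ∀ r, d.Fix r → φ r = r := by
  classical
  choose m hm r hr hdec using d.exists_decomp
  have uniq : ∀ g, ∀ n < 128, ∀ s, d.Fix s → g = d.emb n * s →
      d.emb (f (m g)) * r g = d.emb (f n) * s := by
    intro g n hn s hs hg
    obtain ⟨hi, h1, h2⟩ := ivx_spec n hn
    have e : d.emb (mu (ivx n) (m g)) * r g = s := by
      rw [d.emb_mul hi (hm g), mul_assoc, ← hdec, hg, ← mul_assoc, ← d.emb_mul hi hn, h2,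
        d.emb_zero, one_mul]
    set k := mu (ivx n) (m g) with hk
    have hkl : k < 128 := mu_lt _ hi _ (hm g)
    have hk' : k = 0 ∨ k = 64 := by
      refine d.eq_central hkl fun j hj => ?_
      have e' : d.emb k = s * (r g)⁻¹ := by rw [← e, mul_inv_cancel_right]
      rw [e']
      exact (Commute.mul_left (show Commute s (d.emb j) from hs j hj)
        ((show Commute (r g) (d.emb j) from hr g j hj).inv_left)).eq
    have e2 : m g = mu n k := by
      have key : ∀ a < 128, ∀ b < 128, mu b (mu (ivx b) a) = a := by decide +kernel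
      rw [hk, key (m g) (hm g) n hn]
    rw [e2, hhom n hn k hkl, d.emb_mul (hrange n hn).1 (hrange k hkl).1, mul_assoc]
    congr 1
    rcases hk' with h | h <;> rw [← e, h]
    · rw [hc.2, d.emb_zero, one_mul]
    · rw [hc.1]
  let F : Q →* Q := MonoidHom.mk' (fun g => d.emb (f (m g)) * r g) (by
    intro g h
    have hfix : d.Fix (r g * r h) := fun j hj =>
      (Commute.mul_left (hr g j hj) (hr h j hj) : Commute _ _).eq
    have hmul : g * h = d.emb (mu (m g) (m h)) * (r g * r h) := by
      conv_lhs => rw [hdec g, hdec h]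
      rw [d.emb_mul (hm g) (hm h), mul_assoc (d.emb (m g)), ← mul_assoc (r g), hr g _ (hm h)]
      group
    rw [uniq _ _ (mu_lt _ (hm g) _ (hm h)) _ hfix hmul, hhom _ (hm g) _ (hm h),
      d.emb_mul (hrange _ (hm g)).1 (hrange _ (hm h)).1]
    calc d.emb (f (m g)) * d.emb (f (m h)) * (r g * r h)
        = d.emb (f (m g)) * (d.emb (f (m h)) * r g) * r h := by group
      _ = d.emb (f (m g)) * (r g * d.emb (f (m h))) * r h := by rw [hr g _ (hrange _ (hm h)).1]
      _ = _ := by group)
  have hemb : ∀ n < 128, F (d.emb n) = d.emb (f n) := fun n hn => by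
    refine (uniq _ n hn 1 (fun j _ => by rw [one_mul, mul_one]) (mul_one _).symm).trans (mul_one _)
  have hfixr : ∀ s, d.Fix s → F s = s := fun s hs => by
    refine (uniq _ 0 (by norm_num) s hs (by rw [d.emb_zero, one_mul])).trans ?_
    rw [hc.2, d.emb_zero, one_mul]
  have hfinj : ∀ a < 128, ∀ b < 128, f a = f b → a = b := by
    intro a ha b hb e
    let T : Fin 128 → Fin 128 := fun x => ⟨f x, (hrange x x.2).1⟩
    have hT : Function.Surjective T := fun x => by
      obtain ⟨y, hy, hy'⟩ := (hrange x x.2).2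
      exact ⟨⟨y, hy⟩, Fin.ext hy'⟩
    exact congrArg Fin.val ((Finite.injective_iff_surjective.mpr hT) (a₁ := ⟨a, ha⟩) (a₂ := ⟨b, hb⟩)
      (Fin.ext e))
  have hbij : Function.Bijective F := by
    constructor
    · rw [injective_iff_map_eq_one]
      intro g hg
      have hg' : d.emb (f (m g)) * r g = 1 := hg
      have hl := (hrange _ (hm g)).1
      have hk : f (m g) = 0 ∨ f (m g) = 64 := by
        refine d.eq_central hl fun j hj => ?_
        rw [eq_inv_of_mul_eq_one_left hg']
        exact ((show Commute (r g) (d.emb j) from hr g j hj).inv_left).eq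
      have hmg : m g = f (m g) := by
        rcases hk with h | h
        · rw [h]; exact hfinj _ (hm g) 0 (by norm_num) (h.trans hc.2.symm)
        · rw [h]; exact hfinj _ (hm g) 64 (by norm_num) (h.trans hc.1.symm)
      rw [hdec g, hmg, hg']
    · intro g
      obtain ⟨n, hn, hn'⟩ := (hrange _ (hm g)).2
      refine ⟨d.emb n * r g, ?_⟩
      rw [map_mul, hemb n hn, hfixr _ (hr g), hn', ← hdec g]
  exact ⟨MulEquiv.ofBijective F hbij, hemb, hfixr⟩

end Pairs

/-- A Boolean function of three arguments given by its table. -/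
def sel (u : Bool × Bool × Bool × Bool) (w : Bool × Bool × Bool × Bool) (a b c : Bool) : Bool :=
  bif a then (bif b then (bif c then u.1 else u.2.1) else (bif c then u.2.2.1 else u.2.2.2))
  else (bif b then (bif c then w.1 else w.2.1) else (bif c then w.2.2.1 else w.2.2.2))

theorem sel_table : ∀ u w : Bool × Bool × Bool × Bool,
    (∀ a b c a' b' c', sel u w a b c → sel u w a' b' c' → sel u w (a ^^ a') (b ^^ b') (c ^^ c')) →
    (∀ p q r, (p || q || r) = true → ∃ a b c, sel u w a b c ∧ ((p && a) ^^ ((q && b) ^^ (r && c))) = true) →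
    sel u w true false false ∧ sel u w false true false ∧ sel u w false false true := by
  decide +kernel

theorem unit_of_separating (S : (Fin 3 → Bool) → Bool)
    (hadd : ∀ a b, S a → S b → S (fun i => a i ^^ b i))
    (hsep : ∀ s : Fin 3 → Bool, s ≠ (fun _ => false) →
      ∃ t, S t ∧ ((s 0 && t 0) ^^ ((s 1 && t 1) ^^ (s 2 && t 2))) = true) (j : Fin 3) :
    S (fun i => decide (i = j)) := by
  let T : Bool → Bool → Bool → Bool := fun a b c => S ![a, b, c]
  have hT : ∀ a b c, sel (T true true true, T true true false, T true false true, T true false false)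
      (T false true true, T false true false, T false false true, T false false false) a b c = T a b c := by
    intro a b c
    cases a <;> cases b <;> cases c <;> rfl
  have hv : ∀ t : Fin 3 → Bool, t = ![t 0, t 1, t 2] := fun t => by
    funext i; fin_cases i <;> rfl
  have h := sel_table _ _ (fun a b c a' b' c' h1 h2 => by
      rw [hT] at h1 h2 ⊢
      have h3 := hadd _ _ h1 h2
      rwa [hv (fun i => ![a, b, c] i ^^ ![a', b', c'] i)] at h3) (fun p q r hpqr => by
      obtain ⟨t, h1, h2⟩ := hsep ![p, q, r] (fun e => by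
        have e0 := congrFun e 0
        have e1 := congrFun e 1
        have e2 := congrFun e 2
        simp at e0 e1 e2
        simp [e0, e1, e2] at hpqr)
      refine ⟨t 0, t 1, t 2, ?_, h2⟩
      rw [hT]
      show S ![t 0, t 1, t 2] = true
      rwa [← hv t])
  rw [hT, hT, hT] at h
  fin_cases j
  · rw [hv (fun i => decide _)]; exact h.1
  · rw [hv (fun i => decide _)]; exact h.2.1
  · rw [hv (fun i => decide _)]; exact h.2.2

theorem exists_pairs [Finite Q] {n : ℕ} (hn : 3 ≤ n) (hQ : Cfsg.IsExtraspecial 2 Q)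
    (hplus : ∃ E : Subgroup Q, Cfsg.IsElementaryAbelian 2 E ∧ Nat.card ↥E = 2 ^ (n + 1)) :
    Nonempty (Pairs Q) := by
  classical
  obtain ⟨⟨-, -, hcomm⟩, hZ⟩ := hQ
  obtain ⟨c, hcne, hcun⟩ := Nat.card_eq_two_iff' (1 : Subgroup.center Q) |>.mp hZ
  have hc : ∀ g, g * (c : Q) = c * g := fun g => Subgroup.mem_center_iff.mp c.2 g
  have hc1 : (c : Q) ≠ 1 := fun h => hcne (Subtype.ext h)
  have hcsq : (c : Q) * c = 1 := by
    by_contra h
    have := hcun (c * c) (fun e => h (congrArg Subtype.val e))
    exact hcne (mul_eq_left.mp this)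
  have hcen : ∀ z ∈ Subgroup.center Q, z = 1 ∨ z = c := fun z hz => by
    by_cases h : z = 1
    · exact Or.inl h
    · exact Or.inr (congrArg Subtype.val (hcun ⟨z, hz⟩ fun e => h (congrArg Subtype.val e)))
  have hbin : ∀ g h : Q, g * h = h * g ∨ g * h = h * g * c := by
    intro g h
    have h1 : h⁻¹ * g⁻¹ * h * g ∈ Subgroup.center Q := by
      rw [← hcomm, commutator_def]
      have := Subgroup.commutator_mem_commutator (Subgroup.mem_top h⁻¹) (Subgroup.mem_top g⁻¹)
      simpa [commutatorElement_def] using this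
    rcases hcen _ h1 with e | e
    · left
      calc g * h = g * h * (h⁻¹ * g⁻¹ * h * g) := by rw [e, mul_one]
        _ = h * g := by group
    · right
      calc g * h = g * h * (h⁻¹ * g⁻¹ * h * g) * (c : Q) := by rw [e, mul_assoc, hcsq, mul_one]
        _ = h * g * c := by group
  have hsq : ∀ g : Q, g * g = 1 ∨ g * g = c := fun g => hcen _ (Subgroup.mem_center_iff.mpr fun h => by
    rcases hbin h g with e | e
    · calc h * (g * g) = h * g * g := (mul_assoc h g g).symm
        _ = g * h * g := by rw [e]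
        _ = g * (h * g) := mul_assoc g h g
        _ = g * (g * h) := by rw [e]
        _ = g * g * h := (mul_assoc g g h).symm
    · calc h * (g * g) = h * g * g := by group
        _ = g * h * ((c : Q) * g) := by rw [e]; group
        _ = g * (h * g) * c := by rw [← hc g]; group
        _ = g * g * h * ((c : Q) * c) := by rw [e]; group
        _ = g * g * h := by rw [hcsq, mul_one])
  obtain ⟨E, ⟨hEc, hEexp⟩, hEcard⟩ := hplus
  have hEcomm : ∀ a ∈ E, ∀ b ∈ E, a * b = b * a := fun a ha b hb =>
    congrArg Subtype.val (mul_comm' (⟨a, ha⟩ : E) ⟨b, hb⟩)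
  have hEsq : ∀ a ∈ E, a * a = 1 := fun a ha => by rw [← pow_two]; exact hEexp a ha
  have h16 : 16 ≤ Nat.card E := by
    rw [hEcard]; calc 16 = 2 ^ 4 := by norm_num
      _ ≤ _ := Nat.pow_le_pow_right two_pos (by omega)
  have pick : ∀ S : Finset Q, S.card ≤ 8 → ∃ a ∈ E, a ∉ S := fun S hS => by
    haveI := Fintype.ofFinite E
    by_contra hne
    push Not at hne
    have : Nat.card E ≤ S.card := by
      rw [← Nat.card_eq_finsetCard S]
      exact Nat.card_le_card_of_injective (fun a : E => (⟨a, hne a a.2⟩ : S))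
        fun a b e => Subtype.ext (Subtype.mk.inj e)
    omega
  let X : (Fin 3 → Bool) → (Fin 3 → Q) → Q :=
    fun s v => cond' (s 0) (v 0) * cond' (s 1) (v 1) * cond' (s 2) (v 2)
  obtain ⟨a, ha, ha'⟩ := pick {1, (c : Q)} ((Finset.card_le_two).trans (by norm_num))
  obtain ⟨b, hb, hb'⟩ := pick {1, (c : Q), a, a * c} ((Finset.card_le_four).trans (by norm_num))
  obtain ⟨e, he, he'⟩ := pick ({1, (c : Q), a, a * c} ∪ {b, b * c, a * b, a * b * c})
    ((Finset.card_union_le _ _).trans (Nat.add_le_add Finset.card_le_four Finset.card_le_four))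
  simp only [Finset.mem_insert, Finset.mem_singleton, Finset.mem_union, not_or] at ha' hb' he'
  set v : Fin 3 → Q := ![a, b, e]
  have hv : ∀ i, v i ∈ E := fun i => by fin_cases i <;> assumption
  have hne : ∀ s, s ≠ (fun _ => false) → X s v ∉ Subgroup.center Q := by
    intro s hs hmem
    have hab := hEcomm a ha b hb
    have hsqa := hEsq a ha
    have hsqb := hEsq b hb
    have hsqab := hEsq (a * b) (E.mul_mem ha hb)
    have hsolve : ∀ g t z : Q, g * g = 1 → g * t = z → t = g * z :=
      fun g t z hg he₁ => by rw [← he₁, ← mul_assoc, hg, one_mul]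
    obtain ⟨he1, he2, he3, he4⟩ := he'.1
    obtain ⟨he5, he6, he7, he8⟩ := he'.2
    obtain ⟨hb1, hb2, hb3, hb4⟩ := hb'
    obtain ⟨ha1, ha2⟩ := ha'
    rcases hcen _ hmem with h | h <;>
    · revert hs h
      rcases Bool.eq_false_or_eq_true (s 2) with h2 | h2 <;>
      rcases Bool.eq_false_or_eq_true (s 1) with h1 | h1 <;>
      rcases Bool.eq_false_or_eq_true (s 0) with h0 | h0 <;>
      intro hs h <;> simp [X, v, cond', h0, h1, h2] at h <;>
      first
      | (refine absurd (funext fun i => ?_) hs; fin_cases i <;> assumption)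
      | exact ha1 h | exact ha2 h | exact hb1 h | exact hb2 h | exact he1 h | exact he2 h
      | (have h' := hsolve a b _ hsqa h; (try simp at h'); first | exact hb3 h' | exact hb4 h')
      | (have h' := hsolve a e _ hsqa h; (try simp at h'); first | exact he3 h' | exact he4 h')
      | (have h' := hsolve b e _ hsqb h; (try simp at h'); first | exact he5 h' | exact he6 h')
      | (have h' := hsolve (a * b) e _ hsqab h; (try simp at h'); first | exact he7 h' | exact he8 h')
  -- commutation bits of an element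
  let β : Q → Fin 3 → Bool := fun g i => decide (g * v i ≠ v i * g)
  have hβX : ∀ g s, g * X s v = X s v * g ↔
      ((s 0 && β g 0) ^^ ((s 1 && β g 1) ^^ (s 2 && β g 2))) = false := by
    intro g s
    have hstep : ∀ i, g * cond' (s i) (v i) = cond' (s i) (v i) * g * cond' (s i && β g i) (c : Q) := by
      intro i
      cases hsi : s i
      · simp [cond']
      · by_cases hgi : g * v i = v i * g
        · simp [cond', β, hgi]
        · have := (hbin g (v i)).resolve_left hgi
          simp [cond', β, hgi, this, hc1, hcne]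
    have hcc : ∀ t h, cond' t (c : Q) * h = h * cond' t (c : Q) := fun t h => by
      cases t <;> simp [cond', hc]
    have e1 : g * X s v = X s v * g * cond' ((s 0 && β g 0) ^^ ((s 1 && β g 1) ^^ (s 2 && β g 2))) (c : Q) := by
      have f0 := hstep 0
      have f1 := hstep 1
      have f2 := hstep 2
      have k0 := fun h => hcc (s 0 && β g 0) h
      have k1 := fun h => hcc (s 1 && β g 1) h
      rw [← cond'_mul hcsq, ← cond'_mul hcsq]
      show g * (_ * _ * _) = _ * _ * _ * g * _
      revert f0 f1 f2 k0 k1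
      generalize cond' (s 0) (v 0) = P0
      generalize cond' (s 1) (v 1) = P1
      generalize cond' (s 2) (v 2) = P2
      generalize cond' (s 0 && β g 0) (c : Q) = C0
      generalize cond' (s 1 && β g 1) (c : Q) = C1
      generalize cond' (s 2 && β g 2) (c : Q) = C2
      intro f0 f1 f2 k0 k1
      calc g * (P0 * P1 * P2) = (g * P0) * P1 * P2 := by group
        _ = P0 * g * (C0 * (P1 * P2)) := by rw [f0]; group
        _ = P0 * (g * P1) * P2 * C0 := by rw [k0]; group
        _ = P0 * P1 * g * (C1 * P2) * C0 := by rw [f1]; group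
        _ = P0 * P1 * (g * P2) * C1 * C0 := by rw [k1]; group
        _ = P0 * P1 * P2 * g * C2 * (C1 * C0) := by rw [f2]; group
        _ = _ := by rw [k0 (C1 * C2), k1 C2]; group
    rw [e1]
    cases ((s 0 && β g 0) ^^ ((s 1 && β g 1) ^^ (s 2 && β g 2)))
    · simp [cond']
    · simp [cond', hc1]
  have hβmul : ∀ g h i, β (g * h) i = (β g i ^^ β h i) := by
    intro g h i
    by_cases hg : g * v i = v i * g <;> by_cases hh : h * v i = v i * h
    · have : g * h * v i = v i * (g * h) := ((show Commute g (v i) from hg).mul_left hh).eq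
      simp [β, hg, hh, this]
    all_goals
      have hh' := (hbin h (v i))
      have hg' := (hbin g (v i))
      have key : g * h * v i = g * (h * v i) := mul_assoc g h (v i)
    · have : g * h * v i = v i * (g * h) * c := by
        rw [key, hh'.resolve_left hh, ← mul_assoc g, ← mul_assoc g, hg, mul_assoc (v i)]
      simp [β, hg, hh, this, hc1]
    · have : g * h * v i = v i * (g * h) * c := by
        rw [key, hh, ← mul_assoc, hg'.resolve_left hg, mul_assoc (v i * g), ← hc h]
        group
      simp [β, hg, hh, this, hc1]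
    · have : g * h * v i = v i * (g * h) := by
        rw [key, hh'.resolve_left hh, ← mul_assoc g, ← mul_assoc g, hg'.resolve_left hg,
          mul_assoc (v i * g) (c : Q) h, ← hc h, ← mul_assoc, mul_assoc _ (c : Q) (c : Q), hcsq,
          mul_one, mul_assoc]
      simp [β, hg, hh, this]
  let S : (Fin 3 → Bool) → Bool := fun t => decide (∃ g, β g = t)
  have hunit := unit_of_separating S (fun p q hp hq => by
      simp only [S, decide_eq_true_eq] at hp hq ⊢
      obtain ⟨g, rfl⟩ := hp
      obtain ⟨h, rfl⟩ := hq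
      exact ⟨g * h, funext fun i => hβmul g h i⟩) (fun s hs => by
      obtain ⟨g, hg⟩ : ∃ g, ¬ g * X s v = X s v * g := by
        by_contra hcon
        push Not at hcon
        exact hne s hs (Subgroup.mem_center_iff.mpr hcon)
      refine ⟨β g, by simp [S], ?_⟩
      rw [hβX] at hg
      simpa using hg)
  simp only [S, decide_eq_true_eq] at hunit
  choose w hw using hunit
  have hβ : ∀ g i, β g i = false ↔ g * v i = v i * g := fun g i => by simp [β]
  have hvv : ∀ i j, v i * v j = v j * v i := fun i j => hEcomm _ (hv i) _ (hv j)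
  have hβv : ∀ i j, β (v i) j = false := fun i j => (hβ _ _).mpr (hvv i j)
  -- adjusting squares
  have fixsq : ∀ i g, (∀ j, β g j = decide (j = i)) → ∃ g', (∀ j, β g' j = decide (j = i)) ∧
      g' * g' = 1 ∧ ∀ h, h * g = g * h → h * v i = v i * h → h * g' = g' * h := by
    intro i g hg
    rcases hsq g with e | e
    · exact ⟨g, hg, e, fun h h1 _ => h1⟩
    · refine ⟨g * v i, fun j => by rw [hβmul, hg, hβv, Bool.xor_false], ?_, fun h h1 h2 =>
        ((show Commute h g from h1).mul_right h2).eq⟩
      have hn : ¬ g * v i = v i * g := fun e' => by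
        have := (hβ g i).mpr e'
        rw [hg] at this
        simp at this
      calc g * v i * (g * v i) = g * v i * (v i * g * c) := by
            rw [(hbin g (v i)).resolve_left hn]
        _ = g * (v i * v i) * g * c := by group
        _ = 1 := by rw [hEsq _ (hv i), mul_one, e, hcsq]
  have fixcomm : ∀ (j : Fin 3) (g h : Q), (∀ k, β h k = decide (k = j)) → ∃ g',
      (∀ k, β g' k = β g k) ∧ h * g' = g' * h ∧
      ∀ u, u * g = g * u → u * v j = v j * u → u * g' = g' * u := by
    intro j g h hh
    by_cases e : h * g = g * h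
    · exact ⟨g, fun _ => rfl, e, fun u h1 _ => h1⟩
    · refine ⟨g * v j, fun k => by rw [hβmul, hβv, Bool.xor_false], ?_, fun u h1 h2 =>
        ((show Commute u g from h1).mul_right h2).eq⟩
      have hn : ¬ h * v j = v j * h := fun e' => by
        have := (hβ h j).mpr e'
        rw [hh] at this
        simp at this
      have e1 := (hbin h g).resolve_left e
      have e2 := (hbin h (v j)).resolve_left hn
      calc h * (g * v j) = g * h * ((c : Q) * v j) := by rw [← mul_assoc, e1]; group
        _ = g * (h * v j) * c := by rw [← hc (v j)]; group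
        _ = g * (v j * h) * ((c : Q) * c) := by rw [e2]; group
        _ = g * v j * h := by rw [hcsq]; group
  obtain ⟨y0, hy0, hy0s, -⟩ := fixsq 0 (w 0) (fun j => congrFun (hw 0) j)
  obtain ⟨g1, hg1, hg1c, -⟩ := fixcomm 0 (w 1) y0 hy0
  obtain ⟨y1, hy1, hy1s, hy1p⟩ := fixsq 1 g1 (fun j => (hg1 j).trans (congrFun (hw 1) j))
  have h01 : y0 * y1 = y1 * y0 := hy1p y0 hg1c ((hβ y0 1).mp (by rw [hy0]; decide))
  obtain ⟨g2, hg2, hg2c, -⟩ := fixcomm 0 (w 2) y0 hy0
  obtain ⟨g3, hg3, hg3c, hg3p⟩ := fixcomm 1 g2 y1 hy1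
  have h03 : y0 * g3 = g3 * y0 := hg3p y0 hg2c ((hβ y0 1).mp (by rw [hy0]; decide))
  obtain ⟨y2, hy2, hy2s, hy2p⟩ := fixsq 2 g3
    (fun j => ((hg3 j).trans (hg2 j)).trans (congrFun (hw 2) j))
  have h02 : y0 * y2 = y2 * y0 := hy2p y0 h03 ((hβ y0 2).mp (by rw [hy0]; decide))
  have h12 : y1 * y2 = y2 * y1 := hy2p y1 hg3c ((hβ y1 2).mp (by rw [hy1]; decide))
  have hyb : ∀ i j, β (![y0, y1, y2] i) j = decide (j = i) := fun i j => by
    fin_cases i
    exacts [hy0 j, hy1 j, hy2 j]
  refine ⟨⟨v, ![y0, y1, y2], c, hc1, hcsq, hc, hbin, fun i => hEsq _ (hv i), fun i => ?_, hvv,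
    fun i j => ?_, fun i j hij => ?_, fun i => ?_⟩⟩
  · fin_cases i
    exacts [hy0s, hy1s, hy2s]
  · fin_cases i <;> fin_cases j <;>
      first | rfl | exact h01 | exact h01.symm | exact h02 | exact h02.symm | exact h12 | exact h12.symm
  · exact (hβ _ _).mp (by rw [hyb, decide_eq_false (Ne.symm hij)])
  · refine (hbin _ _).resolve_left fun e' => ?_
    have := (hβ _ _).mpr e'
    rw [hyb] at this
    simp at this

end CfsgLib.ExtraAut
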