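import Mathlib

/-!
# A certificate in the extraspecial group of order 128

An element is a natural number below 128: bits 0-2, bits 3-5 and the central bit 6.
-/

set_option autoImplicit false
set_option maxRecDepth 100000

namespace CfsgLib.ExtraAut

/-- The parity of a number below 8. -/
def par (t : ℕ) : ℕ := (150 >>> t) % 2

/-- The product. -/
def mu (x y : ℕ) : ℕ :=
  Nat.xor (Nat.xor x y) (par (Nat.land ((x / 8) % 8) (y % 8)) * 64)

/-- The inverse. -/
def ivx (x : ℕ) : ℕ := Nat.xor x (par (Nat.land ((x / 8) % 8) (x % 8)) * 64)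

/-- Conjugation. -/
def cj (m x : ℕ) : ℕ := mu (mu m x) (ivx m)

/-- The table of the first automorphism. -/
def tableA : ℕ :=
  0x64706074687c6c78227626722e7a2a7e5f0b5b0f13471743190d1d0955415145213525316d79697d673363372b7f2f7b1a4e1e4a164212465c48584c5044544024302034283c2c38623666326e3a6a3e1f4b1b4f53075703594d5d4915011105617565712d39293d277323776b3f6f3b5a0e5e0a560252061c08180c10041400

/-- The table of the second automorphism. -/
def tableB : ℕ :=
  0x7a50214b705a6b016f45741e250f7e1418320369123849234d67167c072d1c764c26577d462c1d3719734268533948626e04351f640e7f557b11604a315b6a403a10610b301a2b412f05345e654f3e5458724329527809630d27563c476d5c360c66173d066c5d7759330228137908222e44755f244e3f153b51200a711b2a00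

/-- The first automorphism. -/
def autA (x : ℕ) : ℕ := (tableA >>> (8 * x)) % 256

/-- The second automorphism. -/
def autB (x : ℕ) : ℕ := (tableB >>> (8 * x)) % 256

/-- The first automorphism followed by an inner one. -/
def genA (i x : ℕ) : ℕ := autA (cj i x)

/-- The second automorphism followed by an inner one. -/
def genB (j x : ℕ) : ℕ := autB (cj j x)

/-- The first relator. -/
def relB (f : ℕ → ℕ) (x : ℕ) : ℕ := f (f (f (f (f (f x)))))

/-- The second relator. -/
def relAB (f g : ℕ → ℕ) (x : ℕ) : ℕ := f (f (g (g (g (f (f (g (g (g x)))))))))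

theorem mu_lt : ∀ x < 128, ∀ y < 128, mu x y < 128 := by decide +kernel

theorem ivx_spec : ∀ x < 128, ivx x < 128 ∧ mu x (ivx x) = 0 ∧ mu (ivx x) x = 0 := by decide +kernel

theorem mu_decomp : ∀ x < 128, ∀ y < 128, mu x y =
    Nat.xor (Nat.xor x y) (par (Nat.land ((x / 8) % 8) (y % 8)) * 64) := fun _ _ _ _ => rfl

theorem autA_hom : ∀ x < 128, ∀ y < 128, autA (mu x y) = mu (autA x) (autA y) := by decide +kernel

theorem autB_hom : ∀ x < 128, ∀ y < 128, autB (mu x y) = mu (autB x) (autB y) := by decide +kernel

theorem autA_range : ∀ x < 128, autA x < 128 ∧ ∃ y < 128, autA y = x := by decide +kernel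

theorem autB_range : ∀ x < 128, autB x < 128 ∧ ∃ y < 128, autB y = x := by decide +kernel

theorem autA_central : autA 64 = 64 ∧ autA 0 = 0 := by decide +kernel

theorem autB_central : autB 64 = 64 ∧ autB 0 = 0 := by decide +kernel

theorem relB_inner : ∀ x < 128, relB autB x = cj 19 x := by decide +kernel

theorem relAB_inner : ∀ x < 128, relAB autA autB x = cj 19 x := by decide +kernel

theorem certificate : ∀ j < 128, (∀ k < 6, relB (genB j) (2 ^ k) = 2 ^ k) →
    ∀ i < 128, ¬ ∀ k < 6, relAB (genA i) (genB j) (2 ^ k) = 2 ^ k := by decide +kernel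

end CfsgLib.ExtraAut
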